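import Cfsg.Agent.Lib.Calc.Basic

/-! # The theorem of Sylvester and Schur: `n.choose k` has a prime divisor greater than `k` if `n ≥ 2 k` -/

set_option autoImplicit false
set_option maxRecDepth 100000

namespace Cfsg.Lib.Syv

open Nat hiding blt
open Finset Calc

/-- trial division -/
noncomputable def isP (p : ℕ) : Bool :=
  band (Nat.ble 2 p) (band (blt p (2030 ^ 2)) (allLt 2030 fun d => bor (blt d 2) (bor (blt p (d * d)) (blt 0 (p % d)))))

theorem prime_of_isP {p : ℕ} (h : isP p = true) : p.Prime := by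
  simp only [isP, band_eq_true, allLt_iff, bor_eq_true, blt_iff, ble_iff] at h
  refine prime_def_le_sqrt.2 ⟨h.1, fun d a b c => ?_⟩
  have := h.2.2 d (b.trans_lt (sqrt_lt'.2 h.2.1))
  rw [le_sqrt] at b
  rw [mod_eq_zero_of_dvd c] at this
  omega

/-- a chain of primes with small gaps -/
noncomputable def chk (l : List ℕ) : ℕ → Bool :=
  List.rec (motive := fun _ => ℕ → Bool) (fun p => Nat.ble 4096000 p)
    (fun q _ ih p => band (isP q) (band (Nat.ble ((q - p - 1) ^ 3) (p ^ 2)) (ih q))) l

theorem of_chk {l : List ℕ} {p n : ℕ} (h : chk l p = true) (hp : p.Prime) (h1 : p ≤ n) (h2 : n < 4096000) :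
    ∃ q, q.Prime ∧ q ≤ n ∧ (n - q) ^ 3 ≤ n ^ 2 := by
  induction l generalizing p with
  | nil => exact absurd (ble_iff.1 h) (by omega)
  | cons q l ih =>
    obtain ⟨a, b⟩ := band_eq_true.1 h
    obtain ⟨b, c⟩ := band_eq_true.1 b
    rcases le_or_gt q n with e | e
    · exact ih c (prime_of_isP a) e
    · exact ⟨p, hp, h1, (Nat.pow_le_pow_left (by omega) 3).trans ((ble_iff.1 b).trans (Nat.pow_le_pow_left h1 2))⟩

theorem chk_ok : chk [
  3, 5, 7, 11, 13, 19, 23, 31, 41, 53, 67, 83, 103, 113, 137, 163, 193, 227, 263, 293, 337, 383, 433, 491, 547, 613,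
  683, 761, 839, 919, 1013, 1109, 1217, 1327, 1447, 1571, 1699, 1831, 1979, 2137, 2297, 2467, 2647, 2837, 3037, 3229,
  3433, 3659, 3889, 4133, 4391, 4657, 4933, 5209, 5507, 5813, 6133, 6469, 6803, 7159, 7529, 7907, 8297, 8707, 9127,
  9551, 9973, 10433, 10909, 11399, 11903, 12421, 12953, 13499, 14057, 14639, 15233, 15823, 16453, 17099, 17761,
  18439, 19121, 19819, 20551, 21283, 22051, 22817, 23609, 24421, 25261, 26119, 26993, 27893, 28813, 29753, 30713,
  31687, 32687, 33703, 34747, 35809, 36887, 37993, 39119, 40253, 41413, 42589, 43801, 45013, 46279, 47569, 48871,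
  50207, 51563, 52937, 54347, 55763, 57223, 58699, 60209, 61729, 63281, 64853, 66467, 68099, 69767, 71453, 73141,
  74887, 76651, 78439, 80263, 82073, 83939, 85853, 87797, 89767, 91771, 93787, 95819, 97883, 100003, 102149, 104327,
  106543, 108791, 111053, 113363, 115693, 118061, 120431, 122869, 125339, 127843, 130379, 132949, 135533, 138163,
  140831, 143537, 146273, 149033, 151841, 154681, 157561, 160453, 163403, 166363, 169373, 172433, 175523, 178643,
  181813, 185021, 188261, 191537, 194839, 198197, 201589, 205019, 208493, 211997, 215531, 219119, 222731, 226397,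
  230107, 233861, 237631, 241463, 245339, 249257, 253159, 257161, 261169, 265249, 269377, 273527, 277741, 281993,
  286289, 290627, 295007, 299419, 303889, 308383, 312943, 317539, 322193, 326881, 331613, 336403, 341233, 346117,
  351047, 356023, 361033, 366103, 371213, 376373, 381569, 386809, 392113, 397469, 402869, 408311, 413807, 419351,
  424939, 430589, 436291, 442033, 447829, 453683, 459523, 465469, 471467, 477523, 483629, 489791, 495983, 502247,
  508559, 514903, 521317, 527789, 534311, 540877, 547513, 554189, 560929, 567719, 574547, 581459, 588403, 595411,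
  602489, 609619, 616799, 624037, 631339, 638699, 646103, 653563, 661093, 668677, 676297, 683983, 691739, 699557,
  707437, 715373, 723361, 731413, 739523, 747679, 755903, 764189, 772537, 780953, 789419, 797957, 806549, 815209,
  823913, 832693, 841541, 850453, 859423, 868459, 877543, 886667, 895889, 905171, 914521, 923939, 933421, 942943,
  952559, 962237, 971981, 981769, 991643, 1001587, 1011589, 1021663, 1031761, 1041961, 1052237, 1062563, 1072969,
  1083449, 1093997, 1104613, 1115299, 1126043, 1136843, 1147717, 1158679, 1169687, 1180771, 1191941, 1203179,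
  1214489, 1225871, 1237309, 1248833, 1260419, 1272079, 1283797, 1295603, 1307483, 1319429, 1331443, 1343519,
  1355693, 1367929, 1380251, 1392631, 1405099, 1417639, 1430243, 1442923, 1455683, 1468517, 1481413, 1494403,
  1507469, 1520611, 1533817, 1547101, 1560473, 1573927, 1587449, 1601051, 1614733, 1628491, 1642327, 1656247,
  1670213, 1684289, 1698427, 1712639, 1726951, 1741339, 1755799, 1770337, 1784963, 1799639, 1814431, 1829299,
  1844257, 1859281, 1874399, 1889579, 1904849, 1920211, 1935641, 1951153, 1966697, 1982381, 1998133, 2013989,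
  2029921, 2045929, 2062043, 2078243, 2094523, 2110891, 2127347, 2143877, 2160469, 2177167, 2193959, 2210837,
  2227801, 2244859, 2261993, 2279161, 2296447, 2313851, 2331337, 2348911, 2366543, 2384297, 2402107, 2420017,
  2438027, 2456141, 2474321, 2492603, 2510971, 2529421, 2547973, 2566601, 2585347, 2604167, 2623091, 2642111,
  2661221, 2680421, 2699713, 2719081, 2738539, 2758109, 2777771, 2797523, 2817371, 2837309, 2857339, 2877473,
  2897689, 2917973, 2938391, 2958887, 2979497, 3000199, 3021001, 3041893, 3062881, 3083963, 3105143, 3126427,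
  3147797, 3169273, 3190829, 3212483, 3234251, 3256093, 3278057, 3300103, 3322261, 3344521, 3366877, 3389339,
  3411901, 3434489, 3457253, 3480101, 3503063, 3526111, 3549253, 3572519, 3595877, 3619339, 3642911, 3666583,
  3690361, 3714241, 3738223, 3762299, 3786481, 3810769, 3835157, 3859649, 3884239, 3908921, 3933733, 3958627,
  3983641, 4008769, 4033979, 4059317, 4084757, 4110283] 2 = true := by decide +kernel

theorem small : allLt 37 (fun k => allLt 216 fun n => bor (blt n (2 * k)) (bor (Nat.beq k 0)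
    (forceB (n.descFactorial k / k !) fun c => !allL [2, 3, 5, 7, 11, 13, 17, 19, 23, 29, 31, 37, 41, 43, 47, 53, 59, 61, 67,
      71, 73, 79, 83, 89, 97, 101, 103, 107, 109, 113, 127, 131, 137, 139, 149, 151, 157, 163, 167, 173, 179, 181, 191, 193, 197,
        199, 211] fun p => bor (Nat.ble p k) (blt 0 (c % p))))) = true := by decide +kernel

theorem three_mul_pi {k : ℕ} (h : 37 ≤ k) : 3 * primeCounting k < k := by
  rcases lt_or_ge k 151 with e | e
  · exact (by decide +kernel : ∀ k < 151, 37 ≤ k → 3 * primeCounting k < k) k e h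
  · obtain ⟨n, rfl⟩ := Nat.exists_eq_add_of_le' (show 30 ≤ k by omega)
    have := primeCounting'_add_le (a := 30) (k := 31) (by decide) (by decide) n
    rw [show primeCounting' 31 = 10 by decide +kernel, show φ 30 = 8 by decide +kernel] at this
    rw [primeCounting, show n + 30 + 1 = 31 + n by omega]
    omega

theorem pow_le_choose {n k : ℕ} (h : k ≤ n) : n ^ k ≤ k ^ k * n.choose k := by
  induction k generalizing n with
  | zero => simp
  | succ k ih =>
    obtain ⟨n, rfl⟩ := Nat.exists_eq_add_of_le' (show 1 ≤ n by omega)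
    rw [pow_succ (k + 1), mul_assoc, mul_comm (k + 1), ← add_one_mul_choose_eq, pow_succ', mul_left_comm]
    refine Nat.mul_le_mul_left _ ?_
    rcases k.eq_zero_or_pos with rfl | e
    · simp
    refine Nat.le_of_mul_le_mul_left (c := k ^ k) ?_ (Nat.pow_pos e)
    calc _ = (k * (n + 1)) ^ k := (mul_pow ..).symm
      _ ≤ ((k + 1) * n) ^ k := Nat.pow_le_pow_left (by nlinarith) _
      _ ≤ _ := by rw [mul_pow, mul_left_comm]; exact Nat.mul_le_mul_left _ (ih (by omega))

theorem ratio {k d : ℕ} (h : d ≤ k) : 3 ^ d * (2 * k).choose k ≤ 2 ^ d * (2 * k + d).choose k := by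
  induction d with
  | zero => simp
  | succ d ih =>
    have a := choose_mul_succ_eq (2 * k + d) k
    rw [show 2 * k + d + 1 - k = k + d + 1 by omega] at a
    have b : 3 * (2 * k + d).choose k ≤ 2 * (2 * k + (d + 1)).choose k :=
      Nat.le_of_mul_le_mul_right (c := k + d + 1) (by rw [mul_assoc 2, ← add_assoc, ← a]; nlinarith) (by omega)
    calc _ = 3 * (3 ^ d * (2 * k).choose k) := by ring
      _ ≤ 2 ^ d * (3 * (2 * k + d).choose k) := by rw [mul_left_comm (2 ^ d)]; exact Nat.mul_le_mul_left _ (ih (by omega))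
      _ ≤ _ := by rw [pow_succ, mul_assoc]; exact Nat.mul_le_mul_left _ b

theorem lower {n k : ℕ} (hk : 0 < k) (h : 2 * k ≤ n) : 3 ^ k * 4 ^ min k (n / 3) ≤ 2 ^ k * (2 * k * n.choose k) := by
  wlog e : n ≤ 3 * k generalizing n
  · have := this (n := 3 * k) (by omega) le_rfl
    rw [show min k (n / 3) = min k (3 * k / 3) by omega]
    exact this.trans (by gcongr; omega)
  obtain ⟨d, rfl⟩ := Nat.exists_eq_add_of_le h
  obtain ⟨c, rfl⟩ := Nat.exists_eq_add_of_le (show d ≤ k by omega)
  have a := ratio (k := d + c) (d := d) (by omega)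
  have b := four_pow_le_two_mul_self_mul_centralBinom _ hk
  have f : 2 ^ d * (3 ^ (d + c) * 4 ^ min (d + c) ((2 * (d + c) + d) / 3)) ≤ 2 ^ (d + c) * (3 ^ d * 4 ^ (d + c)) := by
    rw [← pow_le_pow_iff_left₀ (n := 3) zero_le zero_le (by decide), mul_pow, mul_pow, ← pow_mul 4]
    calc _ ≤ (2 ^ d) ^ 3 * ((3 ^ (d + c)) ^ 3 * 4 ^ (3 * d + 2 * c)) := by gcongr <;> omega
      _ = (2 * 3 * 4) ^ (3 * d) * (3 ^ 3 * 4 ^ 2) ^ c := by simp only [mul_pow, ← pow_mul]; ring
      _ ≤ (2 * 3 * 4) ^ (3 * d) * (2 ^ 3 * 4 ^ 3) ^ c := Nat.mul_le_mul_left _ (Nat.pow_le_pow_left (by decide) _)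
      _ = _ := by simp only [mul_pow, ← pow_mul]; ring
  refine Nat.le_of_mul_le_mul_left (f.trans ?_) (by positivity)
  rw [mul_left_comm (2 ^ d)]
  refine Nat.mul_le_mul_left _ ((Nat.mul_le_mul_left _ b).trans ?_)
  rw [mul_left_comm, mul_left_comm (2 ^ d)]
  exact Nat.mul_le_mul_left _ a

theorem exp_one {i : ℕ} (h : 9 ≤ i) : 16 * (i + 1) ^ 4 ≤ 4 ^ i := by
  induction i, h using Nat.le_induction with
  | base => norm_num
  | succ i h ih =>
    have a : (10 * (i + 1 + 1)) ^ 4 ≤ (11 * (i + 1)) ^ 4 := Nat.pow_le_pow_left (by omega) _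
    rw [mul_pow, mul_pow] at a
    rw [pow_succ 4]; omega

theorem exp_two {j : ℕ} (h : 160 ≤ j) : 2 ^ j * (16 * (j + 1) ^ 2) ^ 5 < 3 ^ j := by
  induction j, h using Nat.le_induction with
  | base => norm_num
  | succ j h ih =>
    have a : (27 * (j + 1 + 1)) ^ 10 ≤ (28 * (j + 1)) ^ 10 := Nat.pow_le_pow_left (by omega) _
    rw [mul_pow, mul_pow] at a
    rw [mul_pow, ← pow_mul] at ih ⊢
    calc _ = 2 ^ j * (16 ^ 5 * (2 * (j + 1 + 1) ^ 10)) := by ring
      _ ≤ 2 ^ j * (16 ^ 5 * (3 * (j + 1) ^ 10)) := by gcongr 2 ^ j * (16 ^ 5 * ?_); omega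
      _ < _ := by rw [pow_succ 3, show 10 = 2 * 5 from rfl]; linarith

variable {n k : ℕ} (h : 2 * k ≤ n) (hk : 0 < k) (H : ∀ p, p.Prime → k < p → ¬ p ∣ n.choose k)
include h hk H

theorem prod_eq : n.choose k = ∏ p ∈ primesLE k, p ^ (n.choose k).factorization p := by
  conv_lhs => rw [← prod_factorization_pow_eq_self (choose_pos (show k ≤ n by omega)).ne']
  exact prod_subset (fun p e => mem_primesLE.2 ⟨not_lt.1 fun l => H p (prime_of_mem_primeFactors e) l
    (dvd_of_mem_primeFactors e), prime_of_mem_primeFactors e⟩) fun p _ e => by simp [Finsupp.notMem_support_iff.1 e]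

theorem upper_one : n.choose k ≤ n ^ primeCounting k := by
  rw [prod_eq h hk H, ← primesLE_card_eq_primeCounting]
  exact prod_le_pow_card _ _ _ fun p _ => pow_factorization_choose_le (by omega)

theorem upper_two (h4 : 4 ≤ n) : n.choose k ≤ n ^ sqrt n * 4 ^ min k (n / 3) := by
  rw [prod_eq h hk H, ← prod_filter_mul_prod_filter_not _ (· ≤ sqrt n)]
  refine mul_le_mul' ((prod_le_pow_card _ _ _ fun p _ => pow_factorization_choose_le (by omega)).trans
    (Nat.pow_le_pow_right (by omega) ((card_le_card (t := Icc 1 (sqrt n)) fun p e => ?_).trans (by simp)))) ?_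
  · exact mem_Icc.2 ⟨(prime_of_mem_primesLE (mem_filter.1 e).1).pos, (mem_filter.1 e).2⟩
  refine .trans ?_ (primorial_le_four_pow _)
  rw [← prod_filter_mul_prod_filter_not _ (· ≤ n / 3), prod_eq_one (s := filter (¬ · ≤ n / 3) _) fun p e => ?_, mul_one]
  · refine (prod_le_prod' (g := id) fun p e => ?_).trans (prod_le_prod_of_subset_of_one_le' (fun p e => ?_) fun p e _ =>
      (mem_filter.1 e).2.pos)
    · simp only [mem_filter, mem_primesLE, not_le, sqrt_lt'] at e
      exact (Nat.pow_le_pow_right e.1.1.2.pos (factorization_choose_le_one e.1.2)).trans (pow_one p).le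
    · simp only [mem_filter, mem_primesLE, mem_range] at e ⊢
      exact ⟨by omega, e.1.1.2⟩
  · simp only [mem_filter, mem_primesLE, not_le, sqrt_lt'] at e
    rw [factorization_choose_of_lt_three_mul (by rintro rfl; omega) e.1.1.1 (by omega) (by omega), pow_zero]

omit H in
theorem sylvester_schur : ∃ p, p.Prime ∧ k < p ∧ p ∣ n.choose k := by
  by_contra! H
  have L := pow_le_choose (show k ≤ n by omega)
  rcases le_or_gt (k ^ 3) (n ^ 2) with c | c
  · replace L := L.trans (Nat.mul_le_mul_left _ (upper_one h hk H))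
    rcases le_or_gt 37 k with e | e
    · refine absurd (Nat.pow_le_pow_left L 3) (not_le.2 ?_)
      calc _ = (k ^ 3) ^ k * n ^ (3 * primeCounting k) := by ring
        _ < (n ^ 2) ^ k * n ^ k := (Nat.mul_le_mul_right _ (Nat.pow_le_pow_left c _)).trans_lt
          (Nat.mul_lt_mul_of_pos_left (Nat.pow_lt_pow_right (by omega) (three_mul_pi e)) (by have : 0 < n := (by omega); positivity))
        _ = _ := by ring
    rcases lt_or_ge n 216 with f | f
    · have := of_allLt (of_allLt small e) f
      simp only [bor_eq_true, blt_iff, beq_iff, forceB_eq, ← choose_eq_descFactorial_div_factorial] at this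
      replace this := (this.resolve_left (by omega)).resolve_left hk.ne'
      rw [allL_iff.2 fun p a => bor_eq_true.2 ((le_or_gt p k).imp ble_iff.2 fun b => blt_iff.2 (Nat.pos_of_ne_zero fun c =>
        H p (by revert p; norm_num) b (dvd_of_mod_eq_zero c)))] at this
      exact Bool.noConfusion this
    · obtain ⟨a, b⟩ := (by decide +kernel : ∀ k < 37, 0 < k → primeCounting k ≤ k ∧ k ^ k < 216 ^ (k - primeCounting k)) k e hk
      rw [← pow_sub_mul_pow n a, Nat.mul_le_mul_right_iff (by positivity)] at L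
      exact absurd ((Nat.pow_le_pow_left f _).trans L) b.not_ge
  rcases lt_or_ge k 25600 with e | e
  · obtain ⟨p, a, b, d⟩ := of_chk chk_ok prime_two (show 2 ≤ n by omega) (lt_of_pow_lt_pow_left₀ 2 zero_le
      (c.trans_le ((Nat.pow_le_pow_left e.le 3).trans (by norm_num))))
    have := lt_of_pow_lt_pow_left₀ 3 zero_le (d.trans_lt c)
    exact H p a (by omega) (a.dvd_choose (by omega) (by omega) b)
  have U := upper_two h hk H (by omega)
  have j1 : 160 ≤ sqrt k := le_sqrt.2 e
  have j2 := lt_succ_sqrt' k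
  have j3 := sqrt_le' k
  have t1 := sqrt_le' n
  have t2 : 0 < sqrt n := sqrt_pos.2 (by omega)
  generalize sqrt n = t at *
  rcases le_or_gt (16 * k) n with f | f
  · have i1 : 9 ≤ sqrt (sqrt k) := le_sqrt.2 (by omega)
    have i2 := lt_succ_sqrt' (sqrt k)
    have i3 := sqrt_le' (sqrt k)
    have i4 := exp_one i1
    generalize sqrt k = j at *
    generalize sqrt j = i at *
    have a : i * t ≤ k := le_of_pow_le_pow_left₀ (n := 4) (by decide) zero_le (calc
      _ = (i ^ 2) ^ 2 * (t ^ 2) ^ 2 := by ring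
      _ ≤ k * k ^ 3 := Nat.mul_le_mul ((Nat.pow_le_pow_left i3 2).trans j3) ((Nat.pow_le_pow_left t1 2).trans c.le)
      _ = _ := by ring)
    have b : 16 * k < 4 ^ i := lt_of_lt_of_le (by
      have := j2.trans_le (Nat.pow_le_pow_left (show j.succ ≤ i.succ ^ 2 from i2) 2)
      rw [← pow_mul] at this; exact Nat.mul_lt_mul_of_pos_left this (by decide)) i4
    have d : t ≤ k := (Nat.le_mul_of_pos_left t (by omega)).trans a
    replace L := L.trans (Nat.mul_le_mul_left _ (U.trans (Nat.mul_le_mul_left _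
      (Nat.pow_le_pow_right (by decide) (min_le_left ..)))))
    rw [← pow_sub_mul_pow n d, mul_left_comm, mul_comm, Nat.mul_le_mul_left_iff (Nat.pow_pos (by omega))] at L
    refine absurd (Nat.mul_le_mul_right ((16 * k) ^ t) ((Nat.pow_le_pow_left f _).trans L)) (not_le.2 ?_)
    rw [pow_sub_mul_pow _ d]
    calc _ < k ^ k * 4 ^ k * (4 ^ i) ^ t := Nat.mul_lt_mul_of_pos_left (Nat.pow_lt_pow_left b t2.ne') (by positivity)
      _ ≤ k ^ k * 4 ^ k * 4 ^ k := by rw [← pow_mul]; gcongr; decide
      _ = _ := by rw [show 16 = 4 * 4 from rfl, mul_pow, mul_pow]; ring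
  · have j4 := exp_two j1
    rw [succ_eq_add_one] at j2
    generalize sqrt k = j at *
    have a : t < 4 * (j + 1) := lt_of_pow_lt_pow_left₀ 2 zero_le (by rw [mul_pow]; omega)
    have b := (lower hk h).trans (Nat.mul_le_mul_left _ (Nat.mul_le_mul_left _ U))
    rw [← mul_assoc, ← mul_assoc, Nat.mul_le_mul_right_iff (by positivity), mul_assoc] at b
    refine absurd b (not_le.2 ?_)
    obtain ⟨s, rfl⟩ := Nat.exists_eq_add_of_le j3
    calc _ ≤ 2 ^ (j ^ 2 + s) * ((16 * (j + 1) ^ 2) * (16 * (j + 1) ^ 2) ^ t) := by gcongr <;> omega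
      _ ≤ 2 ^ (j ^ 2 + s) * (16 * (j + 1) ^ 2) ^ (5 * j) := by
        rw [← _root_.pow_succ']; exact Nat.mul_le_mul_left _ (Nat.pow_le_pow_right (by positivity) (by omega))
      _ = (2 ^ j * (16 * (j + 1) ^ 2) ^ 5) ^ j * 2 ^ s := by generalize 16 * (j + 1) ^ 2 = x; ring
      _ < (3 ^ j) ^ j * 3 ^ s := (Nat.mul_lt_mul_of_pos_right (Nat.pow_lt_pow_left j4 (by omega)) (by positivity)).trans_le
        (Nat.mul_le_mul_left _ (Nat.pow_le_pow_left (by decide) _))
      _ = _ := by ring

end Cfsg.Lib.Syv
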